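import Groth.Agent.NakaiMo.Vanish
import Groth.Agent.AmpleVan.Criterion
import Groth.Agent.HilbPoly.Step
import Groth.Agent.AmpleX.Generated
import Groth.Agent.InvX.GenEpi

/-! Powers of an invertible module with a section are generated when twists of small modules vanish. -/

noncomputable section

set_option linter.style.haveILetI false
set_option backward.isDefEq.respectTransparency false
set_option backward.isDefEq.respectTransparency.types false

universe u

open CategoryTheory CategoryTheory.Limits AlgebraicGeometry TopologicalSpace Opposite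
open Groth.Agent.H23.PicMul
open Groth.Agent.PnCoh.Finite (mapLin)

namespace Groth.Agent.NakaiMo

open HilbPoly (pw)

variable {X : Scheme.{u}}

local notation "O_" => Coh.structureModule X

theorem germ_smul_eq {M : X.Modules} {U : X.Opens} {x : X} (hx : x ∈ U) (g : Γ(X, U)) (e : Γ(M, U)) :
    AmpleVan.germM M hx (g • e) = X.presheaf.germ U x hx g • AmpleVan.germM M hx e :=
  KFlatLib.germP_smul (P := DCoh.toP.obj M) U hx g e

/-- The twisted vanishing ideal of a point: lifting sections that vanish there. -/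
theorem exists_lift {P : X.Modules} (hP : PicF.IsInvertible P) {y : X} (hy : IsClosed ({y} : Set X))
    (T : Γ((AmpleVan.tw P).obj O_, ⊤)) (hT : y ∉ CohB1.genLocus _ (InvX.ofSect T)) :
    ∃ e : Γ((AmpleVan.tw P).obj (QCoh.vanIdeal ({y} : Set X)).toModules, ⊤),
      ((AmpleVan.tw P).map (QCoh.vanIdeal ({y} : Set X)).ι).app ⊤ e = T := by
  haveI := AmpleVan.isEquivalence_tw hP
  let I := QCoh.vanIdeal ({y} : Set X)
  have hS : (ShortComplex.mk I.ι (cokernel.π I.ι) (cokernel.condition _)).ShortExact :=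
    { exact := ShortComplex.exact_of_g_is_cokernel _ (cokernelIsCokernel _) }
  let S := (ShortComplex.mk I.ι (cokernel.π I.ι) (cokernel.condition _)).map (AmpleVan.tw P)
  have hS' : S.ShortExact := hS.map_of_exact _
  refine QCoh.exists_app_f_eq hS' ⊤ T ?_
  refine TopCat.Presheaf.section_ext ⟨S.X₃.presheaf, S.X₃.isSheaf⟩ _ _ _ fun z _ => ?_
  suffices h : ∃ (W : X.Opens) (_ : z ∈ W), AModX.res S.X₃ (le_top : W ≤ ⊤) (S.g.app ⊤ T) = 0 by
    obtain ⟨W, hzW, hW⟩ := h
    show S.X₃.presheaf.germ ⊤ z _ (S.g.app ⊤ T) = S.X₃.presheaf.germ ⊤ z _ 0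
    rw [← InvX.germ_res' (le_top : W ≤ ⊤) hzW (S.g.app ⊤ T), hW, map_zero, map_zero]
  obtain ⟨U, hzU, e₀, he₀⟩ := InvX.exists_frame hP z
  by_cases hzy : z = y
  · subst hzy
    let fr : Γ((AmpleVan.tw P).obj O_, U) := InvX.tmul (show Γ(O_, U) from (1 : Γ(X, U))) e₀
    have hfr : InvX.IsFrame fr := InvX.isFrame_tmul (InvX.isFrame_one U) he₀
    obtain ⟨g, hg⟩ := hfr.exists_coord le_rfl (AModX.res _ (le_top : U ≤ ⊤) T)
    rw [AModX.res_self] at hg
    have hgl := InvX.genLocus_inf (InvX.ofSect T) hfr (g := g) (by rw [InvX.one_ofSect]; exact hg)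
    have hgy : z ∉ X.basicOpen g := fun h => hT (hgl.ge h).1
    have hmem : (show Γ(O_, U) from g) ∈ I.mem U := fun w hw hwb => by
      rw [Set.mem_singleton_iff] at hw
      subst hw
      exact hgy hwb
    obtain ⟨e₁, he₁⟩ := I.exists_app_eq hmem
    refine ⟨U, hzU, ?_⟩
    refine (AModX.app_res S.g _ T).symm.trans ((congrArg (S.g.app _) hg).trans ?_)
    have h1 : g • fr = S.f.app U (InvX.tmul e₁ e₀) := by
      refine Eq.trans ?_ (AmpleVan.map_tmul_left I.ι e₁ e₀).symm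
      rw [he₁, ← InvX.tmul_smul_left]
      exact congrArg (fun a => InvX.tmul a e₀) (AmpleVan.fn_smul_one (show Γ(O_, U) from g))
    rw [h1, QCoh.app_g_f]
  · let W : X.Opens := U ⊓ ⟨({y} : Set X)ᶜ, hy.isOpen_compl⟩
    have hzW : z ∈ W := ⟨hzU, hzy⟩
    let fr : Γ((AmpleVan.tw P).obj O_, W) :=
      InvX.tmul (show Γ(O_, W) from (1 : Γ(X, W))) (AModX.res P inf_le_left e₀)
    have hfr : InvX.IsFrame fr := InvX.isFrame_tmul (InvX.isFrame_one W) (he₀.res _)
    obtain ⟨g, hg⟩ := hfr.exists_coord le_rfl (AModX.res _ (le_top : W ≤ ⊤) T)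
    rw [AModX.res_self] at hg
    have hmem : (show Γ(O_, W) from (1 : Γ(X, W))) ∈ I.mem W := fun w hw hwb => by
      rw [Set.mem_singleton_iff] at hw
      subst hw
      exact (X.basicOpen_le _ hwb).2 rfl
    obtain ⟨e₁, he₁⟩ := I.exists_app_eq hmem
    refine ⟨W, hzW, ?_⟩
    refine (AModX.app_res S.g _ T).symm.trans ((congrArg (S.g.app _) hg).trans ?_)
    have h1 : fr = S.f.app W (InvX.tmul e₁ (AModX.res P inf_le_left e₀)) := by
      refine Eq.trans ?_ (AmpleVan.map_tmul_left I.ι e₁ _).symm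
      rw [he₁]
    rw [h1]
    refine (Scheme.Modules.Hom.app_smul S.g _ _).trans ?_
    rw [QCoh.app_g_f, smul_zero]

variable (k : Type u) [Field k] [X.Over (Spec (CommRingCat.of k))]

/-- A closed point at which the twisted vanishing ideal injects in degree one carries a generating section. -/
theorem exists_genLocus_of_injective {P : X.Modules} (hP : PicF.IsInvertible P) {y : X}
    (hy : IsClosed ({y} : Set X))
    (hinj : Function.Injective (mapLin k ((AmpleVan.tw P).map (QCoh.vanIdeal ({y} : Set X)).ι) 1)) :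
    ∃ s : O_ ⟶ P, y ∈ CohB1.genLocus P s := by
  haveI := AmpleVan.isEquivalence_tw hP
  let I := QCoh.vanIdeal ({y} : Set X)
  let S₀ : ShortComplex X.Modules := ShortComplex.mk I.ι (cokernel.π I.ι) (cokernel.condition _)
  have hS₀ : S₀.ShortExact := { exact := ShortComplex.exact_of_g_is_cokernel _ (cokernelIsCokernel _) }
  let S := S₀.map (AmpleVan.tw P)
  have hS : S.ShortExact := hS₀.map_of_exact _
  obtain ⟨U, hyU, e₀, he₀⟩ := InvX.exists_frame hP y
  let V : X.Opens := ⟨({y} : Set X)ᶜ, hy.isOpen_compl⟩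
  let fr : Γ(S.X₂, U) := InvX.tmul (show Γ(O_, U) from (1 : Γ(X, U))) e₀
  have hfr : InvX.IsFrame fr := InvX.isFrame_tmul (InvX.isFrame_one U) he₀
  let q₁ : Γ(S.X₃, U) := S.g.app U fr
  have hcomp : S.X₃.presheaf.map (homOfLE (inf_le_left : U ⊓ V ≤ U)).op q₁ = 0 := by
    have hone : (show Γ(O_, U ⊓ V) from (1 : Γ(X, U ⊓ V))) ∈ I.mem (U ⊓ V) := fun w hw hwb => by
      rw [Set.mem_singleton_iff] at hw
      subst hw
      exact (X.basicOpen_le _ hwb).2 rfl
    obtain ⟨e₁, he₁⟩ := I.exists_app_eq hone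
    have h1 : AModX.res S.X₂ (inf_le_left : U ⊓ V ≤ U) fr =
        S.f.app (U ⊓ V) (InvX.tmul e₁ (AModX.res P inf_le_left e₀)) := by
      refine (InvX.res_tmul _ _ e₀).trans (Eq.trans ?_ (AmpleVan.map_tmul_left I.ι e₁ _).symm)
      rw [he₁]
      exact congrArg (fun a => InvX.tmul a _) (map_one (AModX.resR (inf_le_left : U ⊓ V ≤ U)))
    show AModX.res S.X₃ _ (S.g.app U fr) = 0
    rw [← AModX.app_res, h1, QCoh.app_g_f]
  have hcov : (⊤ : X.Opens) ≤ iSup fun b : ULift.{u} Bool => cond b.down U V := fun z _ => by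
    by_cases hz : z = y
    · exact Opens.mem_iSup.2 ⟨⟨true⟩, hz ▸ hyU⟩
    · exact Opens.mem_iSup.2 ⟨⟨false⟩, hz⟩
  have hcompat : TopCat.Presheaf.IsCompatible (X := X.toPresheafedSpace.carrier) S.X₃.presheaf
      (fun b : ULift.{u} Bool => cond b.down U V)
      (fun b => match b with
        | ⟨true⟩ => q₁
        | ⟨false⟩ => (0 : Γ(S.X₃, V))) := by
    rintro ⟨_ | _⟩ ⟨_ | _⟩
    · rfl
    · refine (map_zero (S.X₃.presheaf.map _).hom).trans ?_
      have h' := congrArg (S.X₃.presheaf.map (homOfLE (le_of_eq (inf_comm V U))).op) hcomp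
      rw [map_zero, QCoh.map_map] at h'
      exact h'.symm
    · exact hcomp.trans (map_zero (S.X₃.presheaf.map _).hom).symm
    · rfl
  obtain ⟨q, hq, -⟩ := TopCat.Sheaf.existsUnique_gluing' (X := X.toPresheafedSpace.carrier)
    (⟨S.X₃.presheaf, S.X₃.isSheaf⟩ : TopCat.Sheaf AddCommGrpCat.{u} X.toPresheafedSpace.carrier)
    _ ⊤ (fun _ => homOfLE le_top) hcov _ hcompat
  obtain ⟨T, hT⟩ := app_top_surjective k hS hinj q
  let φ : (AmpleVan.tw P).obj O_ ≅ P := CurveTensor.structureTensorIso P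
  refine ⟨InvX.ofSect T ≫ φ.hom, ?_⟩
  rw [InvX.genLocus_comp_iso _ φ]
  by_contra hyT
  obtain ⟨g, hg⟩ := hfr.exists_coord le_rfl (AModX.res S.X₂ (le_top : U ≤ ⊤) T)
  rw [AModX.res_self] at hg
  have h0 : S.g.app U ((g - 1) • fr) = 0 := by
    rw [sub_smul, one_smul, map_sub, sub_eq_zero, ← hg, AModX.app_res, hT]
    exact hq ⟨true⟩
  obtain ⟨a, ha⟩ := QCoh.exists_app_f_eq hS U _ h0
  have h2 := AmpleVan.coord_mem_maximalIdeal hyU hfr ha (AmpleVan.twMap_ι_mem (Z := ({y} : Set X)) (Set.mem_singleton y) P hyU a)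
  have h3 : X.presheaf.germ U y hyU g ∈ IsLocalRing.maximalIdeal (X.presheaf.stalk y) := by
    refine (QCoh.notMem_basicOpen_iff g y hyU).1 fun h => hyT ?_
    exact ((InvX.genLocus_inf (InvX.ofSect T) hfr (g := g) (by rw [InvX.one_ofSect]; exact hg)).ge h).1
  rw [map_sub, map_one] at h2
  refine (IsLocalRing.maximalIdeal.isMaximal (X.presheaf.stalk y)).ne_top ((Ideal.eq_top_iff_one _).2 ?_)
  simpa using sub_mem h3 h2

/-- Sections of one positive power at every closed point give a generated power. -/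
theorem exists_gg [CompactSpace X] {L : X.Modules} (hL : PicF.IsInvertible L)
    (h : ∀ y : X, IsClosed ({y} : Set X) →
      ∃ (j : ℕ) (_ : 0 < j) (s : O_ ⟶ CohB1.tensorPow L j), y ∈ CohB1.genLocus _ s) :
    ∃ a : ℕ, 0 < a ∧ Curv2.IsGloballyGenerated (CohB1.tensorPow L a) := by
  classical
  have hall : ∀ x : X, ∃ (j : ℕ) (_ : 0 < j) (s : O_ ⟶ CohB1.tensorPow L j), x ∈ CohB1.genLocus _ s := fun x => by
    obtain ⟨z, hz, hzc⟩ := IsClosed.exists_closed_singleton (isClosed_closure (s := ({x} : Set X)))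
      ⟨x, subset_closure rfl⟩
    obtain ⟨j, hj, s, hs⟩ := h z hzc
    exact ⟨j, hj, s, (specializes_iff_mem_closure.2 hz).mem_open (CohB1.genLocus _ s).isOpen hs⟩
  choose m hm s hxs using hall
  obtain ⟨S, hS⟩ := isCompact_univ.elim_finite_subcover
    (fun x => (CohB1.genLocus _ (s x) : Set X)) (fun x => (CohB1.genLocus _ (s x)).2)
    (fun x _ => Set.mem_iUnion.2 ⟨x, hxs x⟩)
  let a := ∏ x ∈ S, m x
  have ha : 0 < a := Finset.prod_pos fun x _ => hm x
  have hpow : ∀ x : X, ∃ t : O_ ⟶ CohB1.tensorPow L a, x ∈ CohB1.genLocus _ t := fun x => by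
    obtain ⟨z, hz, hxz⟩ := Set.mem_iUnion₂.1 (hS (Set.mem_univ x))
    obtain ⟨c, hc⟩ : m z ∣ a := Finset.dvd_prod_of_mem _ hz
    obtain ⟨l, rfl⟩ : ∃ l, c = l + 1 := Nat.exists_eq_add_of_le'
      (Nat.pos_of_ne_zero fun h0 => by rw [h0, mul_zero] at hc; exact ha.ne' hc)
    obtain ⟨t, ht⟩ := AmpleX.exists_section_of_cl_eq (B := CohB1.tensorPow L a)
      (by rw [cl_tensorPow, cl_tensorPow, cl_tensorPow, ← pow_mul, hc]) (InvX.powHom (s z) (l + 1))
    refine ⟨t, ?_⟩
    rw [ht, InvX.genLocus_powHom (InvX.isInvertible_tensorPow hL _)]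
    exact hxz
  refine ⟨a, ha, InvX.isGloballyGenerated_of_generated (ι := Γ(CohB1.tensorPow L a, ⊤)) (s := fun t => t) fun x => ?_⟩
  obtain ⟨t, ht⟩ := hpow x
  obtain ⟨W, hxW, hW⟩ := InvX.mem_genLocus ht
  refine eq_top_iff.2 fun y _ => ?_
  obtain ⟨c, rfl⟩ := (hW.germ_bijective hxW).2 y
  refine Submodule.smul_mem _ c (Submodule.subset_span ⟨InvX.one t, ?_⟩)
  exact (InvX.germ_res' (le_top : W ≤ ⊤) hxW (InvX.one t)).symm

end Groth.Agent.NakaiMo
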