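import Groth.Agent.NakaiMo.Growth
import Groth.Agent.NakaiMo.Generated
import Groth.Agent.IntNum.CurveAmple
import Groth.Agent.IntNum.Main
import Groth.Agent.GGAmple.Basic
import Groth.Agent.VarDim.Top
import Groth.Agent.Lib.AVAmple
import Groth.Agent.AmpleX.Pow

/-! The criterion of Nakai and Moishezon. -/

noncomputable section

set_option linter.style.haveILetI false
set_option backward.isDefEq.respectTransparency false
set_option backward.isDefEq.respectTransparency.types false

universe u

open CategoryTheory CategoryTheory.Limits AlgebraicGeometry TopologicalSpace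
open Groth.Agent.H23.PicMul
open Groth.Agent.PnCoh.Finite (mapLin)

namespace Groth.Agent.NakaiMo

open HilbPoly (pw)

variable {X : Scheme.{u}} (k : Type u) [Field k] [X.Over (Spec (CommRingCat.of k))]
  [IsProper (X ↘ Spec (CommRingCat.of k))]

local notation "O_" => Coh.structureModule X

/-- A nonzero section of an invertible module on an integral scheme is nowhere zero at the generic point. -/
theorem genericPoint_mem_genLocus [IsIntegral X] {N : X.Modules} (hN : PicF.IsInvertible N) (s : O_ ⟶ N)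
    [Mono s] : genericPoint X ∈ CohB1.genLocus N s := by
  obtain ⟨U, hηU, e, he⟩ := InvX.exists_frame hN (genericPoint X)
  obtain ⟨g, hg⟩ := he.exists_coord le_rfl (AModX.res N (le_top : U ≤ ⊤) (InvX.one s))
  rw [AModX.res_self] at hg
  suffices h : genericPoint X ∈ X.basicOpen g from ((InvX.genLocus_inf s he hg).ge h).1
  by_contra hη
  haveI : Nonempty U := ⟨⟨_, hηU⟩⟩
  have hb : X.basicOpen g = ⊥ := by
    refine Opens.ext (Set.eq_empty_of_forall_notMem fun x hx => hη ?_)
    exact (genericPoint_specializes x).mem_open (X.basicOpen g).isOpen hx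
  rw [AlgebraicGeometry.basicOpen_eq_bot_iff] at hb
  subst hb
  rw [zero_smul] at hg
  have h1 : s.app U (1 : Γ(X, U)) = s.app U (show Γ(O_, U) from (0 : Γ(X, U))) := by
    refine (InvX.app_eq_smul s (show Γ(X, U) from 1)).trans ?_
    rw [hg, smul_zero]
    exact (map_zero (s.app U).hom).symm
  exact one_ne_zero (α := Γ(X, U)) (QCoh.app_injective s U h1)

theorem isIso_stalk [IsIntegral X] {N : X.Modules} (hN : PicF.IsInvertible N) (s : O_ ⟶ N) [Mono s] :
    IsIso ((DerSch.stalkFunctor X (genericPoint X)).map s) := by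
  let F := DerSch.stalkFunctor X (genericPoint X)
  obtain ⟨U, hηU, hU⟩ := InvX.mem_genLocus (genericPoint_mem_genLocus hN s)
  haveI := (InvX.isIso_restrict_iff s U).2 hU
  have hC : IsZero (F.obj (cokernel s)) := Snapper.notMem_support_iff.1
    (HilbPoly.notMem_support_of_isZero_restrict (HilbPoly.isZero_restrict_cokernel U s) hηU)
  haveI : Mono (F.map s) := inferInstance
  haveI : Epi (F.map s) := ((ShortComplex.exact_of_g_is_cokernel
    (ShortComplex.mk s (cokernel.π s) (cokernel.condition s)) (cokernelIsCokernel s)).map F).epi_f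
      (hC.eq_of_tgt _ _)
  exact isIso_of_mono_of_epi _

theorem finrank_le_of_surjective {V W : Type u} [AddCommGroup V] [Module k V] [AddCommGroup W] [Module k W]
    (f : V →ₗ[k] W) (hV : Module.Finite k V) (hf : Function.Surjective f) :
    Module.finrank k W ≤ Module.finrank k V := by
  have h := f.finrank_range_le
  rwa [LinearMap.range_eq_top.2 hf, finrank_top] at h

theorem injective_of_surjective {V W : Type u} [AddCommGroup V] [Module k V] [AddCommGroup W] [Module k W]
    (f : V →ₗ[k] W) (hV : Module.Finite k V) (hf : Function.Surjective f)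
    (h : Module.finrank k W = Module.finrank k V) : Function.Injective f := by
  have h1 := f.finrank_range_add_finrank_ker
  rw [LinearMap.range_eq_top.2 hf, finrank_top] at h1
  rw [← LinearMap.ker_eq_bot]
  exact Submodule.finrank_eq_zero.1 (by omega)

theorem exists_injective {N : X.Modules} (hN : PicF.IsInvertible N) (s : O_ ⟶ N) {m₀ : ℕ}
    (hsurj : ∀ m, m₀ ≤ m →
      Function.Surjective (mapLin k ((AmpleVan.tw (CohB1.tensorPow N m)).map s) 1)) :
    ∃ m₁, ∀ m, m₁ ≤ m → Function.Injective (mapLin k ((AmpleVan.tw (CohB1.tensorPow N m)).map s) 1) := by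
  classical
  haveI := CurveCohLib.isNoetherian_of_proper (k := k) (X := X)
  let a : ℕ → ℕ := fun m => Module.finrank k (Coh.HH X ((AmpleVan.tw (CohB1.tensorPow N m)).obj O_) 1)
  have hfin : ∀ m, Module.Finite k (Coh.HH X ((AmpleVan.tw (CohB1.tensorPow N m)).obj O_) 1) := fun m =>
    CurveCohLib.finite_HH (HilbPoly.isCoh_pw hN QCoh.isCoh_structureModule' m) 1
  have hsucc : ∀ m, Module.finrank k (Coh.HH X ((AmpleVan.tw (CohB1.tensorPow N m)).obj N) 1) = a (m + 1) :=
    fun m => HilbPoly.finrank_HH_iso k (pw_structure_succ N m).some 1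
  have hle : ∀ m, m₀ ≤ m → a (m + 1) ≤ a m := fun m hm => by
    rw [← hsucc]
    exact finrank_le_of_surjective k _ (hfin m) (hsurj m hm)
  have hex : ∃ v, ∃ m, m₀ ≤ m ∧ a m = v := ⟨_, m₀, le_rfl, rfl⟩
  obtain ⟨m₁, hm₁, hm₁v⟩ := Nat.find_spec hex
  have hconst : ∀ m, m₁ ≤ m → a m = a m₁ := fun m hm => by
    refine le_antisymm ?_ (hm₁v ▸ Nat.find_min' hex ⟨m, hm₁.trans hm, rfl⟩)
    induction m, hm using Nat.le_induction with
    | base => exact le_rfl
    | succ m hm ih => exact (hle m (hm₁.trans hm)).trans ih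
  exact ⟨m₁, fun m hm => injective_of_surjective k _ (hfin m) (hsurj m (hm₁.trans hm))
    ((hsucc m).trans ((hconst (m + 1) (hm.trans (Nat.le_succ m))).trans (hconst m hm).symm))⟩

include k in
/-- A section makes a power generated when twists of small modules vanish. -/
theorem exists_gg_of_section [IsIntegral X] {N : X.Modules} (hN : PicF.IsInvertible N) (s : O_ ⟶ N) [Mono s]
    (hS : Small N) : ∃ a : ℕ, 0 < a ∧ Curv2.IsGloballyGenerated (CohB1.tensorPow N a) := by
  haveI := CurveCohLib.isNoetherian_of_proper (k := k) (X := X)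
  have hO : Coh.IsCoh O_ := QCoh.isCoh_structureModule'
  have hNc := AmpleVan.isCoh_invertible hN
  have hses : (ShortComplex.mk s (cokernel.π s) (cokernel.condition s)).ShortExact :=
    { exact := ShortComplex.exact_of_g_is_cokernel _ (cokernelIsCokernel s) }
  haveI := isIso_stalk hN s
  obtain ⟨m₀, hm₀⟩ := hS _ (QCoh.isCoh_cokernel hO.1 hNc s)
    (Snapper.notMem_support_cokernel s inferInstance)
  have hsurj : ∀ m, m₀ ≤ m → Function.Surjective (mapLin k ((AmpleVan.tw (CohB1.tensorPow N m)).map s) 1) := fun m hm =>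
    surjective_f k (shortExact_pw hN hses m) 1 (hm₀ m hm 0)
  obtain ⟨m₁, hinj⟩ := exists_injective k hN s hsurj
  refine exists_gg hN fun y hy => ?_
  by_cases hys : y ∈ CohB1.genLocus N s
  · obtain ⟨t, ht⟩ := AmpleX.exists_section_of_cl_eq (B := CohB1.tensorPow N 1)
      (by rw [cl_tensorPow, pow_one]) s
    exact ⟨1, Nat.one_pos, t, ht.ge hys⟩
  let I := QCoh.vanIdeal ({y} : Set X)
  let φ : (AmpleVan.tw N).obj O_ ≅ N := CurveTensor.structureTensorIso N
  let s' : O_ ⟶ (AmpleVan.tw N).obj O_ := s ≫ φ.inv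
  have hys' : y ∉ CohB1.genLocus _ (InvX.ofSect (InvX.one s')) := by
    rw [AVAmple.ofSect_one]
    exact fun h => hys ((InvX.genLocus_comp_iso s φ.symm).le h)
  obtain ⟨e, he⟩ := exists_lift hN hy _ hys'
  let f : O_ ⟶ (AmpleVan.tw N).obj I.toModules := InvX.ofSect e
  haveI := AmpleVan.isEquivalence_tw hN
  have hf : f ≫ (AmpleVan.tw N).map I.ι = s' := by
    rw [← AVAmple.ofSect_one (f ≫ (AmpleVan.tw N).map I.ι), ← AVAmple.ofSect_one s']
    refine congrArg InvX.ofSect ?_
    show ((AmpleVan.tw N).map I.ι).app ⊤ (InvX.one f) = InvX.one s'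
    rw [InvX.one_ofSect, he]
  haveI : Mono (f ≫ (AmpleVan.tw N).map I.ι) := hf ▸ (inferInstance : Mono (s ≫ φ.inv))
  haveI : Mono f := mono_of_mono f ((AmpleVan.tw N).map I.ι)
  have hIc : Coh.IsCoh I.toModules :=
    QCoh.isCoh_of_mono I.ι hO (QCoh.isQCoh_vanIdeal _)
  have hINc : Coh.IsCoh ((AmpleVan.tw N).obj I.toModules) := AmpleVan.isCoh_tensor hIc hNc
  let F := DerSch.stalkFunctor X (genericPoint X)
  have hiso : IsIso (F.map f) := by
    haveI : Mono (F.map ((AmpleVan.tw N).map I.ι)) := inferInstance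
    haveI : IsIso (F.map s') := by
      show IsIso (F.map (s ≫ φ.inv))
      rw [F.map_comp]
      infer_instance
    have h : F.map f ≫ F.map ((AmpleVan.tw N).map I.ι) = F.map s' := by rw [← F.map_comp, hf]
    haveI : Epi (F.map f ≫ F.map ((AmpleVan.tw N).map I.ι)) := h ▸ inferInstance
    haveI : Epi (F.map ((AmpleVan.tw N).map I.ι)) := epi_of_epi (F.map f) _
    haveI : IsIso (F.map ((AmpleVan.tw N).map I.ι)) := isIso_of_mono_of_epi _
    exact IsIso.of_isIso_fac_right h
  obtain ⟨r₀, hr₀⟩ := hS _ (QCoh.isCoh_cokernel hO.1 hINc f)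
    (Snapper.notMem_support_cokernel f inferInstance)
  let m := max m₁ r₀
  have hfses : (ShortComplex.mk f (cokernel.π f) (cokernel.condition f)).ShortExact :=
    { exact := ShortComplex.exact_of_g_is_cokernel _ (cokernelIsCokernel f) }
  have hfs : Function.Surjective (mapLin k ((AmpleVan.tw (CohB1.tensorPow N m)).map f) 1) :=
    surjective_f k (shortExact_pw hN hfses m) 1 (hr₀ m (le_max_right _ _) 0)
  have hι : Function.Injective (mapLin k ((AmpleVan.tw (CohB1.tensorPow N m)).map ((AmpleVan.tw N).map I.ι)) 1) := by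
    refine (injective_iff_map_eq_zero _).2 fun x hx => ?_
    obtain ⟨z, rfl⟩ := hfs x
    rw [mapLin_map, ← (AmpleVan.tw (CohB1.tensorPow N m)).map_comp, hf] at hx
    have h0 : mapLin k ((AmpleVan.tw (CohB1.tensorPow N m)).map s ≫ (AmpleVan.tw (CohB1.tensorPow N m)).map φ.inv) 1 z = 0 := by rw [← (AmpleVan.tw (CohB1.tensorPow N m)).map_comp]; exact hx
    rw [← mapLin_map] at h0
    have h1 := (mapLin_bijective_of_iso k ((AmpleVan.tw (CohB1.tensorPow N m)).mapIso φ.symm) 1).1 (h0.trans (map_zero _).symm)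
    rw [hinj m (le_max_left _ _) (h1.trans (map_zero _).symm), map_zero]
  let P := (AmpleVan.tw (CohB1.tensorPow N m)).obj N
  have hP : PicF.IsInvertible P := InvX.isInvertible_tensorMod hN (InvX.isInvertible_tensorPow hN m)
  let c := AmpleVan.twComp N (CohB1.tensorPow N m)
  have hιP : Function.Injective (mapLin k ((AmpleVan.tw P).map I.ι) 1) := by
    have hnat : (AmpleVan.tw (CohB1.tensorPow N m)).map ((AmpleVan.tw N).map I.ι) ≫ c.hom.app O_ =
        c.hom.app I.toModules ≫ (AmpleVan.tw P).map I.ι := c.hom.naturality I.ι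
    intro x x' hxx
    obtain ⟨z, rfl⟩ := (mapLin_bijective_of_iso k (c.app I.toModules) 1).2 x
    obtain ⟨z', rfl⟩ := (mapLin_bijective_of_iso k (c.app I.toModules) 1).2 x'
    change mapLin k ((AmpleVan.tw P).map I.ι) 1 (mapLin k (c.hom.app I.toModules) 1 z) =
      mapLin k ((AmpleVan.tw P).map I.ι) 1 (mapLin k (c.hom.app I.toModules) 1 z') at hxx
    rw [mapLin_map, mapLin_map, ← hnat, ← mapLin_map, ← mapLin_map] at hxx
    rw [hι ((mapLin_bijective_of_iso k (c.app O_) 1).1 hxx)]
  obtain ⟨σ, hσ⟩ := exists_genLocus_of_injective k hP hy hιP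
  obtain ⟨t, ht⟩ := AmpleX.exists_section_of_cl_eq (B := CohB1.tensorPow N (m + 1))
    (by
      show PicF.cl (CohB1.tensorMod N (CohB1.tensorPow N m)) = _
      rw [cl_tensor, cl_tensorPow, cl_tensorPow, pow_succ']) σ
  exact ⟨m + 1, m.succ_pos, t, ht.ge hσ⟩

theorem mult_one (L M : X.Modules) :
    HilbPoly.mult k L 1 M = Curv2.euler k X (CohB1.tensorMod M L) - Curv2.euler k X M := by
  simp only [HilbPoly.mult, HilbPoly.lead, List.replicate_one, HilbPoly.iterD]
  rfl

/-- Positivity of the top self-intersections on the integral closed subschemes. -/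
def Pos {X : Scheme.{u}} [X.Over (Spec (CommRingCat.of k))] (L : X.Modules) : Prop :=
  ∀ (W : Scheme.{u}) (i : W ⟶ X) [IsClosedImmersion i] [IsIntegral W] (d : ℕ), 0 < d →
    topologicalKrullDim W = (d : WithBot ℕ∞) →
      0 < HilbPoly.mult k L d ((Coh.push i).obj (Coh.structureModule W))

theorem deg_pos_of_pos {L : X.Modules} (hL : PicF.IsInvertible L) (hpos : Pos k L) {Z : Scheme.{u}}
    (i : Z ⟶ X) [IsClosedImmersion i] [IsIntegral Z] (hZ : topologicalKrullDim Z = 1) :
    0 < @Curv2.deg k _ Z ⟨i ≫ (X ↘ Spec (CommRingCat.of k))⟩ ((Scheme.Modules.pullback i).obj L) 1 := by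
  haveI := CurveCohLib.isNoetherian_of_proper (k := k) (X := X)
  letI : Z.Over (Spec (CommRingCat.of k)) := ⟨i ≫ (X ↘ Spec (CommRingCat.of k))⟩
  rw [IntNum.deg_pullback_closed k i rfl (CurveDeg.isCoh_of_isInvertible hL).1, Nat.cast_one, one_mul]
  have h := hpos Z i 1 one_pos hZ
  rwa [mult_one] at h

/-- The integral case. -/
theorem isAmple_integral [IsIntegral X] {L : X.Modules} (hL : PicF.IsInvertible L) (hS : Small L)
    (hpos : Pos k L) {d : ℕ} (hd0 : 0 < d) (hd : topologicalKrullDim X = (d : WithBot ℕ∞)) :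
    CohB1.IsAmple L := by
  haveI := CurveCohLib.isNoetherian_of_proper (k := k) (X := X)
  have hp : 0 < HilbPoly.mult k L d O_ := by
    refine lt_of_lt_of_eq (hpos X (𝟙 X) d hd0 hd) ((HilbPoly.additive_lead (HilbPoly.additive_euler k) hL d).iso _ _ ?_)
    exact ⟨(Scheme.Modules.pushforwardId X).app O_⟩
  obtain ⟨n, s, hn, hs⟩ := exists_section k hL hS hd0 hd.le hp
  have hN := InvX.isInvertible_tensorPow hL n
  haveI := InvEnd.mono_of_ne_zero InvX.isInvertible_structureModule hN s hs
  obtain ⟨a, ha, hgg⟩ := exists_gg_of_section k hN s (hS.of_pow hn)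
  have hna : 0 < n * a := Nat.mul_pos hn ha
  refine AmpleX.isAmple_of_tensorPow hL hna ?_
  refine GGAmple.isAmple_of_gg (X ↘ Spec (CommRingCat.of k)) (InvX.isInvertible_tensorPow hL _)
    (AmpleX.isGloballyGenerated_of_iso (tensorPow_mul L n a).some.symm hgg) fun C hC hd1 => ⟨fun e => ?_⟩
  haveI := hC
  have hdC : topologicalKrullDim C.subscheme = 1 := by
    rw [IsHomeomorph.topologicalKrullDim_eq _
      C.subschemeι.isClosedEmbedding.isEmbedding.toHomeomorph.isHomeomorph, C.range_subschemeι]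
    exact hd1
  have h1 := deg_pos_of_pos k hL hpos C.subschemeι hdC
  letI : C.subscheme.Over (Spec (CommRingCat.of k)) := ⟨C.subschemeι ≫ (X ↘ Spec (CommRingCat.of k))⟩
  haveI : IsProper (C.subscheme ↘ Spec (CommRingCat.of k)) :=
    inferInstanceAs (IsProper (C.subschemeι ≫ (X ↘ Spec (CommRingCat.of k))))
  obtain ⟨e'⟩ := IntNum.pullback_tensorPow C.subschemeι L (n * a)
  have h0 := CurveRR.deg_congr k (e'.symm ≪≫ e) 1
  rw [IntNum.deg_tensorPow k hdC (PicClLib.isInvertible_pullback _ hL), CurveDeg.deg_structureModule] at h0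
  have h2 : (0 : ℤ) < ((n * a : ℕ) : ℤ) := by exact_mod_cast hna
  exact absurd h0 (ne_of_gt (mul_pos h2 h1))

theorem mult_push {Z : Scheme.{u}} (i : Z ⟶ X) [IsClosedImmersion i] [Z.Over (Spec (CommRingCat.of k))]
    (hi : i ≫ (X ↘ Spec (CommRingCat.of k)) = Z ↘ Spec (CommRingCat.of k))
    [IsProper (Z ↘ Spec (CommRingCat.of k))] {L : X.Modules} (hL : PicF.IsInvertible L)
    {M : Z.Modules} (hM : Coh.IsCoh M) (d : ℕ) :
    HilbPoly.mult k ((Scheme.Modules.pullback i).obj L) d M = HilbPoly.mult k L d ((Coh.push i).obj M) := by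
  have h : (HilbPoly.mult k ((Scheme.Modules.pullback i).obj L) d M : ℚ) =
      (HilbPoly.mult k L d ((Coh.push i).obj M) : ℚ) := by
    rw [← IntNum.alt_eq_mult k ((Scheme.Modules.pullback i).obj L) d M,
      ← IntNum.alt_eq_mult k L d ((Coh.push i).obj M)]
    refine IntNum.alt_congr fun n => ?_
    unfold Snapper.χs
    refine congrArg (fun z : ℤ => (z : ℚ)) ?_
    exact IntNum.euler_tensorPows_push k i hi hM (fun _ : Fin d => L) (fun _ => hL) n
  exact_mod_cast h

theorem support_push_subset_image {Z : Scheme.{u}} (i : Z ⟶ X) [IsClosedImmersion i] {M : Z.Modules}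
    (hM : Coh.IsQCoh M) : CohB1.support ((Coh.push i).obj M) ⊆ i '' CohB1.support M := by
  intro x hx
  obtain ⟨z, rfl⟩ := QCoh.support_push_subset i hM hx
  refine ⟨z, fun hz => hx ?_, rfl⟩
  haveI : Subsingleton (M.presheaf.stalk z) := hz
  have h := H23.ClosedPushLen.length_stalk i M z
  rw [Module.length_eq_zero (M := M.presheaf.stalk z)] at h
  exact Module.length_eq_zero_iff.1 h

include k in
/-- Ampleness on all integral closed subschemes inside a closed set gives vanishing on it. -/
theorem vanish_of_ample {L : X.Modules} (hL : PicF.IsInvertible L) {C : Set X}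
    (h : ∀ (Z : Scheme.{u}) (i : Z ⟶ X) [IsClosedImmersion i] [IsIntegral Z], Set.range i ⊆ C →
      CohB1.IsAmple ((Scheme.Modules.pullback i).obj L))
    {M : X.Modules} (hM : Coh.IsCoh M) (hC : CohB1.support M ⊆ C) : Vanish L M := by
  haveI := CurveCohLib.isNoetherian_of_proper (k := k) (X := X)
  haveI : X.IsSeparated := AmpleVan.isSeparated_of_proper (A := k)
  induction QCoh.filt_of_isCoh hM with
  | @zero N hN => exact Vanish.of_isZero hN
  | @step N M' φ _ _ hNc hMc hex ih =>
    obtain ⟨Z, i, hi, hZ, I, ι, hι, hI, hI0, ⟨e⟩⟩ := hex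
    haveI := hi; haveI := hZ; haveI := hι
    have hc := QCoh.isCoh_cokernel hNc.1 hMc φ
    have hS : (ShortComplex.mk φ (cokernel.π φ) (cokernel.condition φ)).ShortExact :=
      .mk' (ShortComplex.exact_of_g_is_cokernel _ (cokernelIsCokernel φ)) ‹_› inferInstance
    have hN' : Vanish L N := ih hNc ((QCoh.mem_support_of_mono hNc.1 hMc.1 φ).trans hC)
    refine Vanish.of_shortExact (S := ShortComplex.mk φ (cokernel.π φ) (cokernel.condition φ)) hL hS hN' ?_
    refine Vanish.of_iso (M := (Coh.push i).obj I) (N := cokernel φ) e.symm ?_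
    have hr : Set.range i ⊆ C := by
      rw [QCoh.range_eq_closure i, ← QCoh.support_push_ideal i ι hI hI0, ← QCoh.support_iso e hc.1]
      exact (QCoh.support_of_epi hMc.1 hc.1 (cokernel.π φ)).trans hC
    letI : Z.Over (Spec (CommRingCat.of k)) := ⟨i ≫ (X ↘ Spec (CommRingCat.of k))⟩
    haveI : IsProper (Z ↘ Spec (CommRingCat.of k)) :=
      show IsProper (i ≫ (X ↘ Spec (CommRingCat.of k))) from inferInstance
    haveI := CurveCohLib.isNoetherian_of_proper (k := k) (X := Z)
    rw [vanish_push_iff (A := k) i hL hI]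
    exact AmpleVan.exists_vanishing (A := k) (h Z i hr) (QCoh.isCoh_of_mono ι QCoh.isCoh_structureModule' hI)

/-- Positivity on all integral closed subschemes gives ampleness on each of them. -/
theorem isAmple_pullback {L : X.Modules} (hL : PicF.IsInvertible L) (hpos : Pos k L) :
    ∀ (C : Closeds X) (Z : Scheme.{u}) (i : Z ⟶ X) [IsClosedImmersion i] [IsIntegral Z],
      Set.range i ⊆ (C : Set X) → CohB1.IsAmple ((Scheme.Modules.pullback i).obj L) := by
  haveI := CurveCohLib.isNoetherian_of_proper (k := k) (X := X)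
  intro C
  induction C using WellFoundedLT.induction with
  | ind C IH =>
    intro Z i _ _ hr
    letI : Z.Over (Spec (CommRingCat.of k)) := ⟨i ≫ (X ↘ Spec (CommRingCat.of k))⟩
    haveI : IsProper (Z ↘ Spec (CommRingCat.of k)) :=
      show IsProper (i ≫ (X ↘ Spec (CommRingCat.of k))) from inferInstance
    haveI := CurveCohLib.isNoetherian_of_proper (k := k) (X := Z)
    have hLZ := PicClLib.isInvertible_pullback i hL
    have hposZ : Pos k ((Scheme.Modules.pullback i).obj L) := by
      intro W j _ _ d hd0 hd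
      rw [mult_push k i rfl hL (QCoh.isCoh_push_structure j)]
      refine lt_of_lt_of_eq (hpos W (j ≫ i) d hd0 hd)
        ((HilbPoly.additive_lead (HilbPoly.additive_euler k) hL d).iso _ _ ?_)
      exact ⟨((Scheme.Modules.pushforwardComp j i).app (Coh.structureModule W)).symm⟩
    obtain ⟨d, hd⟩ : ∃ d : ℕ, topologicalKrullDim Z = (d : WithBot ℕ∞) :=
      ⟨_, VarDim.topologicalKrullDim_eq_deg_genericPoint (Z ↘ Spec (CommRingCat.of k))⟩
    rcases Nat.lt_or_ge d 2 with hd2 | hd2
    · refine IntNum.isAmple_of_deg_pos k (hd.le.trans (by exact_mod_cast Nat.lt_succ_iff.1 hd2)) hLZ fun W j _ _ hW => ?_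
      exact deg_pos_of_pos k hLZ hposZ j hW
    refine isAmple_integral k hLZ (fun M hM hη => ?_) hposZ (by omega) hd
    let C' : Closeds X := ⟨i '' CohB1.support M,
      i.isClosedEmbedding.isClosedMap _ (QCoh.isClosed_support_of_isFT hM.1 hM.2)⟩
    have hlt : C' < C := SetLike.lt_iff_le_and_exists.2
      ⟨fun x hx => hr (Set.image_subset_range _ _ hx), i (genericPoint Z), hr ⟨_, rfl⟩, fun h => by
        obtain ⟨z, hz, hze⟩ := h
        exact hη (i.isClosedEmbedding.injective hze ▸ hz)⟩
    rw [← vanish_push_iff (A := k) i hL hM.1]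
    exact vanish_of_ample k hL (C := (C' : Set X)) (IH C' hlt) (QCoh.isCoh_push i hM)
      (support_push_subset_image i hM.1)

/-- The criterion. -/
theorem isAmple_of_pos {L : X.Modules} (hL : PicF.IsInvertible L) (hpos : Pos k L) : CohB1.IsAmple L := by
  haveI := CurveCohLib.isNoetherian_of_proper (k := k) (X := X)
  refine AmpleVan.isAmple_of_HH_one hL fun W _ => ?_
  obtain ⟨n₀, hn₀⟩ := vanish_of_ample k hL (C := (Set.univ : Set X))
    (fun Z i _ _ _ => isAmple_pullback k hL hpos ⊤ Z i (fun x _ => trivial))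
    (QCoh.isCoh_of_mono (QCoh.vanIdeal W).ι QCoh.isCoh_structureModule' (QCoh.isQCoh_vanIdeal W))
    (Set.subset_univ _)
  exact ⟨n₀, hn₀ (n₀ + 1) (Nat.le_succ _) 0⟩

end Groth.Agent.NakaiMo
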