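import Groth.Agent.NakaiMo.Cohom
import Groth.Agent.Snapper.IsoOn
import Groth.Agent.IntNum.Push
import Groth.Agent.AmpleVan.Uniform
import Groth.Agent.Lib.InvEnd

/-! Eventual vanishing of higher cohomology of twists. -/

noncomputable section

set_option linter.style.haveILetI false
set_option backward.isDefEq.respectTransparency false
set_option backward.isDefEq.respectTransparency.types false

universe u

open CategoryTheory CategoryTheory.Limits AlgebraicGeometry TopologicalSpace
open Groth.Agent.H23.PicMul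

namespace Groth.Agent.NakaiMo

open HilbPoly (pw)

variable {X : Scheme.{u}} {L : X.Modules}

/-- The higher cohomology of the large twists vanishes. -/
def Vanish (L M : X.Modules) : Prop :=
  ∃ n₀ : ℕ, ∀ n, n₀ ≤ n → ∀ q, Subsingleton (Coh.HH X (pw L M n) (q + 1))

/-- Modules missing the generic point have vanishing large twists. -/
def Small [IrreducibleSpace X] (L : X.Modules) : Prop :=
  ∀ M : X.Modules, Coh.IsCoh M → genericPoint X ∉ CohB1.support M → Vanish L M

theorem pwIso {M N : X.Modules} (e : M ≅ N) (n : ℕ) : Nonempty (pw L M n ≅ pw L N n) :=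
  ⟨(AmpleVan.tw (CohB1.tensorPow L n)).mapIso e⟩

theorem Vanish.of_iso {M N : X.Modules} (e : M ≅ N) (h : Vanish L M) : Vanish L N := by
  obtain ⟨n₀, hn⟩ := h
  exact ⟨n₀, fun n hn' q => QCoh.subsingleton_HH_of_iso (pwIso e n).some _ (hn n hn' q)⟩

theorem tensorPow_mul (L : X.Modules) (a b : ℕ) :
    Nonempty (CohB1.tensorPow L (a * b) ≅ CohB1.tensorPow (CohB1.tensorPow L a) b) :=
  cl_eq_iff.1 (by rw [cl_tensorPow, cl_tensorPow, cl_tensorPow, pow_mul])

theorem Vanish.of_pow {M : X.Modules} {a : ℕ} (ha : 0 < a) (h : Vanish L M) :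
    Vanish (CohB1.tensorPow L a) M := by
  obtain ⟨n₀, hn⟩ := h
  refine ⟨n₀, fun n hn' q => QCoh.subsingleton_HH_of_iso
    (PicGrp.tensorModIso (Iso.refl M) (tensorPow_mul L a n).some) _ (hn (a * n) ?_ q)⟩
  exact hn'.trans (Nat.le_mul_of_pos_left n ha)

theorem Small.of_pow [IrreducibleSpace X] {a : ℕ} (ha : 0 < a) (h : Small L) : Small (CohB1.tensorPow L a) :=
  fun M hM hη => (h M hM hη).of_pow ha

/-- The structure sheaf twisted once more. -/
theorem pw_structure_succ (L : X.Modules) (n : ℕ) :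
    Nonempty (pw L L n ≅ pw L (Coh.structureModule X) (n + 1)) :=
  cl_eq_iff.1 (by
    simp only [HilbPoly.pw, cl_tensor, cl_tensorPow]
    rw [← H23.PicMul.one_def, one_mul, pow_succ'])

theorem pw_structure (L : X.Modules) (n : ℕ) :
    Nonempty (pw L (Coh.structureModule X) n ≅ CohB1.tensorPow L n) :=
  ⟨CurveTensor.structureTensorIso _⟩

/-- Twists of the members of a short exact sequence. -/
theorem shortExact_pw (hL : PicF.IsInvertible L) {S : ShortComplex X.Modules} (hS : S.ShortExact) (n : ℕ) :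
    (S.map (AmpleVan.tw (CohB1.tensorPow L n))).ShortExact := by
  haveI := AmpleVan.isEquivalence_tw (InvX.isInvertible_tensorPow hL n)
  exact hS.map_of_exact _

theorem Vanish.of_shortExact (hL : PicF.IsInvertible L) {S : ShortComplex X.Modules} (hS : S.ShortExact)
    (h1 : Vanish L S.X₁) (h3 : Vanish L S.X₃) : Vanish L S.X₂ := by
  obtain ⟨a, ha⟩ := h1
  obtain ⟨b, hb⟩ := h3
  exact ⟨max a b, fun n hn q => QCoh.subsingleton_HH_X₂ (shortExact_pw hL hS n) _
    (ha n (le_of_max_le_left hn) q) (hb n (le_of_max_le_right hn) q)⟩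

theorem Vanish.of_isZero [X.IsSeparated] [IsNoetherian X] {M : X.Modules} (hM : IsZero M) : Vanish L M :=
  ⟨0, fun n _ q => CurveVanish.subsingleton_HH_of_finite Set.finite_empty (by simp)
    (fun x _ => by
      by_contra hx
      exact HilbPoly.support_tensor_subset _ _ hx
        (ModuleCat.subsingleton_of_isZero (Functor.map_isZero (DerSch.stalkFunctor X x) hM))) _⟩

/-- Twists along a closed immersion. -/
theorem vanish_push_iff {A : Type u} [CommRing A] {Z : Scheme.{u}} [X.Over (Spec (CommRingCat.of A))]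
    (i : Z ⟶ X) [IsClosedImmersion i] (hL : PicF.IsInvertible L) {M : Z.Modules} (hM : Coh.IsQCoh M) :
    Vanish L ((Coh.push i).obj M) ↔ Vanish ((Scheme.Modules.pullback i).obj L) M := by
  letI : Z.Over (Spec (CommRingCat.of A)) := ⟨i ≫ (X ↘ Spec (CommRingCat.of A))⟩
  have key : ∀ n q, Subsingleton (Coh.HH Z (pw ((Scheme.Modules.pullback i).obj L) M n) q) ↔
      Subsingleton (Coh.HH X (pw L ((Coh.push i).obj M) n) q) := fun n q => by
    obtain ⟨a⟩ := IntNum.pullback_tensorPow i L n
    obtain ⟨p⟩ := IntNum.push_tensor i M (CohB1.tensorPow L n)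
    let e := (Coh.push i).mapIso (PicGrp.tensorModIso (Iso.refl M) a.symm) ≪≫ p
    obtain ⟨l⟩ := QCoh.HH_push_linear i (Coh.toGlobal (X ↘ Spec (CommRingCat.of A)))
      (Coh.toGlobal (Z ↘ Spec (CommRingCat.of A))) (fun b => rfl)
      (KFlatLib.isQCoh_tensor hM (ProjUPX.isQCoh_of_isInvertible
        (InvX.isInvertible_tensorPow (PicClLib.isInvertible_pullback i hL) n))) q
    exact ⟨fun h => QCoh.subsingleton_HH_of_iso e q (@Equiv.subsingleton _ _ l.toEquiv.symm h),
      fun h => @Equiv.subsingleton _ _ l.toEquiv (QCoh.subsingleton_HH_of_iso e.symm q h)⟩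
  exact ⟨fun ⟨n₀, h⟩ => ⟨n₀, fun n hn q => (key n _).2 (h n hn q)⟩,
    fun ⟨n₀, h⟩ => ⟨n₀, fun n hn q => (key n _).1 (h n hn q)⟩⟩

end Groth.Agent.NakaiMo
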