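import Groth.Agent.HilbPoly.Poly
import Groth.Agent.CurveCohLib.Euler
import Groth.Agent.CurveCohLib.Proper

/-! Dimensions of cohomology along short exact sequences with vanishing outer terms. -/

noncomputable section

set_option linter.style.haveILetI false
set_option backward.isDefEq.respectTransparency false
set_option backward.isDefEq.respectTransparency.types false

universe u

open CategoryTheory CategoryTheory.Limits AlgebraicGeometry TopologicalSpace
open Groth.Agent.PnCoh.Finite (mapLin deltaLin)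

namespace Groth.Agent.NakaiMo

variable {X : Scheme.{u}} (k : Type u) [Field k] [X.Over (Spec (CommRingCat.of k))]

variable {S : ShortComplex X.Modules}

theorem finrank_eq_X₃ (hS : S.ShortExact) (i : ℕ) (h : Subsingleton (Coh.HH X S.X₁ i))
    (h' : Subsingleton (Coh.HH X S.X₁ (i + 1))) :
    Module.finrank k (Coh.HH X S.X₂ i) = Module.finrank k (Coh.HH X S.X₃ i) := by
  refine LinearEquiv.finrank_eq (LinearEquiv.ofBijective (mapLin k S.g i) ⟨?_, ?_⟩)
  · rw [← LinearMap.ker_eq_bot, CurveCohLib.ker_mapLin_g k hS i, LinearMap.range_eq_bot]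
    exact LinearMap.ext fun x => by rw [h.elim x 0, map_zero, map_zero]
  · rw [← LinearMap.range_eq_top, ← CurveCohLib.ker_deltaLin k hS i, LinearMap.ker_eq_top]
    exact LinearMap.ext fun x => h'.elim _ _

theorem surjective_f (hS : S.ShortExact) (i : ℕ) (h' : Subsingleton (Coh.HH X S.X₃ i)) :
    Function.Surjective (mapLin k S.f i) := by
  rw [← LinearMap.range_eq_top, ← CurveCohLib.ker_mapLin_g k hS i, LinearMap.ker_eq_top]
  exact LinearMap.ext fun x => h'.elim _ _

theorem finrank_eq_X₁ (hS : S.ShortExact) (i : ℕ) (h : Subsingleton (Coh.HH X S.X₃ i))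
    (h' : Subsingleton (Coh.HH X S.X₃ (i + 1))) :
    Module.finrank k (Coh.HH X S.X₁ (i + 1)) = Module.finrank k (Coh.HH X S.X₂ (i + 1)) := by
  refine LinearEquiv.finrank_eq (LinearEquiv.ofBijective (mapLin k S.f (i + 1)) ⟨?_, surjective_f k hS _ h'⟩)
  rw [← LinearMap.ker_eq_bot, CurveCohLib.ker_mapLin_f_succ k hS i, LinearMap.range_eq_bot]
  exact LinearMap.ext fun x => by rw [h.elim x 0, map_zero, map_zero]

theorem finrank_eq_of_map (T : X.Modules ⥤ X.Modules) [T.Additive] [PreservesFiniteLimits T]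
    [PreservesFiniteColimits T] {A B : X.Modules} (φ : A ⟶ B)
    (hK : ∀ q, Subsingleton (Coh.HH X (T.obj (kernel φ)) (q + 1)))
    (hC : ∀ q, Subsingleton (Coh.HH X (T.obj (cokernel φ)) (q + 1))) (i : ℕ) :
    Module.finrank k (Coh.HH X (T.obj A) (i + 2)) = Module.finrank k (Coh.HH X (T.obj B) (i + 2)) := by
  have h1 : (ShortComplex.mk (kernel.ι φ) (Abelian.factorThruImage φ)
      ((cancel_mono (Abelian.image.ι φ)).1 (by rw [Category.assoc, Abelian.image.fac, kernel.condition, zero_comp]))).ShortExact :=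
    { exact := ShortComplex.exact_of_f_is_kernel _ (KernelFork.IsLimit.ofι' _ _ fun {T} t ht =>
        ⟨kernel.lift φ t (by rw [← Abelian.image.fac φ, reassoc_of% ht, zero_comp]), kernel.lift_ι _ _ _⟩)
      mono_f := inferInstance
      epi_g := inferInstance }
  have h2 : (ShortComplex.mk (Abelian.image.ι φ) (cokernel.π φ) (kernel.condition _)).ShortExact :=
    { exact := ShortComplex.exact_of_f_is_kernel _ (kernelIsKernel (cokernel.π φ))
      mono_f := inferInstance
      epi_g := inferInstance }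
  exact (finrank_eq_X₃ k (h1.map_of_exact T) (i + 2) (hK (i + 1)) (hK (i + 2))).trans
    (finrank_eq_X₁ k (h2.map_of_exact T) (i + 1) (hC i) (hC (i + 1)))

/-- Surjectivity on global sections from injectivity in degree one. -/
theorem app_top_surjective (hS : S.ShortExact) (h : Function.Injective (mapLin k S.f 1)) :
    Function.Surjective (S.g.app ⊤) := by
  intro q
  obtain ⟨y, hy⟩ := PnCoh.Finite.exists_of_deltaLin_eq_zero k hS 0
    (x := (Sheaf.H.equiv₀ (Coh.toAb S.X₃) isTerminalTop).symm q) (h (by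
      have h0 := LinearMap.mem_ker.1 ((CurveCohLib.ker_mapLin_f_succ k hS 0).ge
        ⟨(Sheaf.H.equiv₀ (Coh.toAb S.X₃) isTerminalTop).symm q, rfl⟩)
      exact h0.trans (map_zero _).symm))
  refine ⟨Sheaf.H.equiv₀ (Coh.toAb S.X₂) isTerminalTop y, ?_⟩
  refine (Sheaf.H.equiv₀_naturality isTerminalTop ((QCoh.toAbFunctor X).map S.g) y).trans ?_
  refine (congrArg (Sheaf.H.equiv₀ (Coh.toAb S.X₃) isTerminalTop) hy).trans ?_
  exact AddEquiv.apply_symm_apply _ _

theorem mapLin_map {A B C : X.Modules} (f : A ⟶ B) (g : B ⟶ C) (i : ℕ) (x : Coh.HH X A i) :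
    mapLin k g i (mapLin k f i x) = mapLin k (f ≫ g) i x :=
  PnCoh.Finite.map_map (Y := X.toPresheafedSpace.carrier) ((QCoh.toAbFunctor X).map_comp f g).symm i x

theorem mapLin_bijective_of_iso {A B : X.Modules} (e : A ≅ B) (i : ℕ) :
    Function.Bijective (mapLin k e.hom i) := by
  refine Function.bijective_iff_has_inverse.2 ⟨mapLin k e.inv i, fun x => ?_, fun x => ?_⟩ <;>
  · rw [mapLin_map]
    simp only [Iso.hom_inv_id, Iso.inv_hom_id]
    exact (congrArg (fun φ => Sheaf.H.map φ i x) ((QCoh.toAbFunctor X).map_id _)).trans (Sheaf.H.map_id_apply _)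

end Groth.Agent.NakaiMo
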