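import Groth.Agent.NakaiMo.Vanish
import Groth.Agent.Snapper.Main
import Mathlib.Analysis.Normed.Field.Lemmas
import Mathlib.Analysis.Polynomial.Basic

/-! A positive top self-intersection gives sections of large powers. -/

noncomputable section

set_option linter.style.haveILetI false
set_option backward.isDefEq.respectTransparency false
set_option backward.isDefEq.respectTransparency.types false

universe u

open CategoryTheory CategoryTheory.Limits AlgebraicGeometry TopologicalSpace

namespace Groth.Agent.NakaiMo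

open HilbPoly (pw)

variable {X : Scheme.{u}} (k : Type u) [Field k] [X.Over (Spec (CommRingCat.of k))]
  [IsProper (X ↘ Spec (CommRingCat.of k))] [IsIntegral X] {L : X.Modules}

/-- The cohomology in degrees at least two of the large powers is constant. -/
theorem exists_stable_high (hL : PicF.IsInvertible L) (hS : Small L) :
    ∃ n₀ : ℕ, ∀ n, n₀ ≤ n → ∀ i, Module.finrank k (Coh.HH X (pw L (Coh.structureModule X) n) (i + 2)) =
      Module.finrank k (Coh.HH X (pw L (Coh.structureModule X) n₀) (i + 2)) := by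
  haveI := CurveCohLib.isNoetherian_of_proper (k := k) (X := X)
  obtain ⟨U, hηU, e, he⟩ := InvX.exists_frame hL (genericPoint X)
  obtain ⟨K, I, a, b, c, hK, hI, ha, hb, hc⟩ := Snapper.exists_link_frame hL he
  have hO : Coh.IsCoh (Coh.structureModule X) := QCoh.isCoh_structureModule'
  have hLc := AmpleVan.isCoh_invertible hL
  have key : ∀ {A B : X.Modules} (φ : A ⟶ B), Coh.IsCoh A → Coh.IsCoh B → Snapper.IsoOn U φ →
      ∃ m, ∀ n, m ≤ n → ∀ i, Module.finrank k (Coh.HH X (pw L A n) (i + 2)) =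
        Module.finrank k (Coh.HH X (pw L B n) (i + 2)) := by
    intro A B φ hA hB hφ
    obtain ⟨m, hm⟩ := hS _ (QCoh.isCoh_kernel hA hB φ) fun h => (Snapper.support_subset_compl hφ).1 h hηU
    obtain ⟨m', hm'⟩ := hS _ (QCoh.isCoh_cokernel hA.1 hB φ) fun h => (Snapper.support_subset_compl hφ).2 h hηU
    refine ⟨max m m', fun n hn i => ?_⟩
    haveI := AmpleVan.isEquivalence_tw (InvX.isInvertible_tensorPow hL n)
    haveI : (AmpleVan.tw (CohB1.tensorPow L n)).Additive := Functor.additive_of_preserves_binary_products _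
    exact finrank_eq_of_map k (AmpleVan.tw (CohB1.tensorPow L n)) φ
      (hm n (le_of_max_le_left hn)) (hm' n (le_of_max_le_right hn)) i
  obtain ⟨m₁, h₁⟩ := key a hK hO ha
  obtain ⟨m₂, h₂⟩ := key b hK hI hb
  obtain ⟨m₃, h₃⟩ := key c hLc hI hc
  refine ⟨max m₁ (max m₂ m₃), fun n hn i => ?_⟩
  induction n, hn using Nat.le_induction with
  | base => rfl
  | succ n hn ih =>
    simp only [max_le_iff] at hn
    rw [← ih, ← HilbPoly.finrank_HH_iso k (pw_structure_succ L n).some, h₃ n hn.2.2, ← h₂ n hn.2.1, h₁ n hn.1]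

/-- A positive top self-intersection gives a nonzero section of a positive power. -/
theorem exists_section (hL : PicF.IsInvertible L) (hS : Small L) {d : ℕ} (hd0 : 0 < d)
    (hd : topologicalKrullDim X ≤ (d : WithBot ℕ∞)) (hpos : 0 < HilbPoly.mult k L d (Coh.structureModule X)) :
    ∃ (n : ℕ) (s : Coh.structureModule X ⟶ CohB1.tensorPow L n), 0 < n ∧ s ≠ 0 := by
  haveI := CurveCohLib.isNoetherian_of_proper (k := k) (X := X)
  haveI : QuasiSeparatedSpace X := quasiSeparatedSpace_of_quasiSeparated (X ↘ Spec (CommRingCat.of k))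
  let O := Coh.structureModule X
  have hO : Coh.IsCoh O := QCoh.isCoh_structureModule'
  obtain ⟨P, hP, hPd, hPα⟩ := HilbPoly.exists_poly (HilbPoly.additive_euler k) hL hO
    ((Topology.IsInducing.subtypeVal.topologicalKrullDim_le).trans hd)
  have hc : 0 < P.coeff d := by
    rw [StabCat.alpha] at hPα
    refine pos_of_mul_pos_right ?_ (by positivity : (0 : ℚ) ≤ (d.factorial : ℚ))
    rw [hPα]
    exact_mod_cast hpos
  have hnd : P.natDegree = d := le_antisymm hPd (Polynomial.le_natDegree_of_ne_zero hc.ne')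
  have hdeg : 0 < P.degree := Polynomial.natDegree_pos_iff_degree_pos.1 (hnd ▸ hd0)
  have hlim := (P.tendsto_atTop_of_leadingCoeff_nonneg hdeg
    (by rw [Polynomial.leadingCoeff, hnd]; exact hc.le)).comp (tendsto_natCast_atTop_atTop (R := ℚ))
  obtain ⟨n₀, hn₀⟩ := exists_stable_high k hL hS
  obtain ⟨B, hB⟩ := QCoh.exists_HH_bound (X := X)
  let T : ℤ := ∑ i ∈ Finset.range B, (-1 : ℤ) ^ i * (Module.finrank k (Coh.HH X (pw L O n₀) (i + 2)) : ℤ)
  obtain ⟨n₁, hn₁⟩ := Filter.eventually_atTop.1 (hlim.eventually (Filter.eventually_gt_atTop (T : ℚ)))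
  let n := max n₁ (max n₀ 1)
  have hT : (T : ℚ) < P.eval (n : ℚ) := hn₁ n (le_max_left _ _)
  rw [← hP n, Int.cast_lt] at hT
  have hq : Coh.IsQCoh (pw L O n) :=
    KFlatLib.isQCoh_tensor hO.1 (ProjUPX.isQCoh_of_isInvertible (InvX.isInvertible_tensorPow hL n))
  have he : Curv2.euler k X (pw L O n) = (Module.finrank k (Coh.HH X (pw L O n) 0) : ℤ) -
      Module.finrank k (Coh.HH X (pw L O n) 1) + T := by
    rw [CurveCohLib.euler_eq_sum (k := k) (N := B + 2) fun i hi => hB _ hq i (by omega),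
      Finset.sum_range_succ', Finset.sum_range_succ']
    have : ∀ i, (-1 : ℤ) ^ (i + 1 + 1) * (Module.finrank k (Coh.HH X (pw L O n) (i + 1 + 1)) : ℤ) =
        (-1 : ℤ) ^ i * (Module.finrank k (Coh.HH X (pw L O n₀) (i + 2)) : ℤ) := fun i => by
      rw [← hn₀ n ((le_max_left _ _).trans (le_max_right _ _)) i]
      ring
    simp only [this, T, zero_add, pow_zero, pow_one, one_mul]
    ring
  have h0 : 0 < Module.finrank k (Coh.HH X (pw L O n) 0) := by omega
  obtain ⟨e⟩ := pw_structure L n
  rw [HilbPoly.finrank_HH_iso k e] at h0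
  refine ⟨n, ?_⟩
  haveI : Nontrivial (Coh.HH X (CohB1.tensorPow L n) 0) := Module.nontrivial_of_finrank_pos h0
  obtain ⟨x, hx⟩ := exists_ne (0 : Coh.HH X (CohB1.tensorPow L n) 0)
  let t : Γ(CohB1.tensorPow L n, ⊤) := Sheaf.H.equiv₀ (Coh.toAb (CohB1.tensorPow L n)) isTerminalTop x
  refine ⟨InvX.ofSect t, lt_of_lt_of_le Nat.one_pos ((le_max_right n₀ 1).trans (le_max_right n₁ _)), fun hs => hx ?_⟩
  have ht : t = 0 := by
    rw [← InvX.one_ofSect t, hs]
    rfl
  exact (Sheaf.H.equiv₀ (Coh.toAb (CohB1.tensorPow L n)) isTerminalTop).injective (ht.trans (map_zero _).symm)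

end Groth.Agent.NakaiMo
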